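import Mathlib
import Groth.Agent.CAlgH3.RegularCore

/-!
# A regular curve germ avoiding a hypersurface
-/

set_option autoImplicit false

universe u

open IsLocalRing

namespace Groth.Agent.Move29

/-- in a regular local ring of positive dimension there is a prime `p` not containing a given nonzero `g`
with `R ⧸ p` regular of dimension one -/
theorem exists_regular_curve : ∀ (n : ℕ) (R : Type u) [CommRing R] [IsRegularLocalRing R],
    (maximalIdeal R).spanFinrank = n + 1 → ∀ g : R, g ≠ 0 →
    ∃ (p : Ideal R) (_ : p.IsPrime), g ∉ p ∧ IsRegularLocalRing (R ⧸ p) ∧ ringKrullDim (R ⧸ p) = 1 := by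
  intro n
  induction n with
  | zero =>
    intro R _ _ hn g hg
    haveI := CAlgH3.isDomain_of_isRegularLocalRing R
    refine ⟨⊥, Ideal.isPrime_bot, by simpa using hg, IsRegularLocalRing.of_ringEquiv (RingEquiv.quotientBot R).symm, ?_⟩
    rw [ringKrullDim_eq_of_ringEquiv (RingEquiv.quotientBot R),
      ← IsRegularLocalRing.spanFinrank_maximalIdeal, hn]
    rfl
  | succ n ih =>
    intro R _ _ hn g hg
    classical
    haveI := CAlgH3.isDomain_of_isRegularLocalRing R
    have hdim : ringKrullDim R = ((n + 2 : ℕ) : WithBot ℕ∞) := by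
      rw [← IsRegularLocalRing.spanFinrank_maximalIdeal, hn]
    have hfin : (Ideal.span {g}).minimalPrimes.Finite := Ideal.finite_minimalPrimes_of_isNoetherianRing R _
    -- the maximal ideal is not covered by `m²` and the minimal primes over `g`
    obtain ⟨y, hym, hy2, hyq⟩ : ∃ y ∈ maximalIdeal R, y ∉ maximalIdeal R ^ 2 ∧
        ∀ q ∈ (Ideal.span {g}).minimalPrimes, y ∉ q := by
      by_contra! hcon
      have hsub : (maximalIdeal R : Set R) ⊆
          ⋃ i ∈ ((insert (maximalIdeal R ^ 2) hfin.toFinset : Finset (Ideal R)) : Set (Ideal R)), (i : Set R) := by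
        intro y hy
        by_cases h2 : y ∈ maximalIdeal R ^ 2
        · exact Set.mem_biUnion (Finset.mem_coe.2 (Finset.mem_insert_self _ _)) h2
        · obtain ⟨q, hq, hyq⟩ := hcon y hy h2
          exact Set.mem_biUnion (Finset.mem_coe.2 (Finset.mem_insert_of_mem (hfin.mem_toFinset.2 hq))) hyq
      obtain ⟨i, hi, hle⟩ := (Ideal.subset_union_prime (maximalIdeal R ^ 2) (maximalIdeal R ^ 2)
        (fun i hi h1 _ => by
          rcases Finset.mem_insert.1 hi with rfl | hi
          · exact absurd rfl h1
          · exact (hfin.mem_toFinset.1 hi).1.1)).1 hsub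
      rcases Finset.mem_insert.1 hi with rfl | hi
      · have hb : maximalIdeal R = ⊥ := Submodule.eq_bot_of_le_smul_of_le_jacobson_bot (maximalIdeal R) _
          (IsNoetherian.noetherian (maximalIdeal R))
          (by rw [smul_eq_mul, ← pow_two]; exact hle) (maximalIdeal_le_jacobson _)
        have h0 := CAlgH3.spanFinrank_le_length (R := R) [] (I := maximalIdeal R) (by
          rw [Ideal.ofList_nil]; exact hb.symm)
        rw [hn] at h0
        simp at h0
      · have hq := hfin.mem_toFinset.1 hi
        haveI : i.IsPrime := hq.1.1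
        have hqm : i = maximalIdeal R := le_antisymm (le_maximalIdeal hq.1.1.ne_top) hle
        have h1 := Ideal.height_le_one_of_isPrincipal_of_mem_minimalPrimes (Ideal.span {g}) i hq
        have h2 := IsLocalRing.maximalIdeal_height_eq_ringKrullDim (R := R)
        rw [← hqm, hdim] at h2
        have h3 : i.height = ((n + 2 : ℕ) : ℕ∞) := WithBot.coe_injective h2
        rw [h3] at h1
        have h4 : n + 2 ≤ 1 := by exact_mod_cast h1
        omega
    obtain ⟨hreg, hd⟩ := CAlgH3.regular_quotient_of_notMem_sq hym hy2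
    haveI := hreg
    haveI hdomq := CAlgH3.isDomain_of_isRegularLocalRing (R ⧸ Ideal.span {y})
    haveI hyP : (Ideal.span {y}).IsPrime := (Ideal.Quotient.isDomain_iff_prime _).1 hdomq
    have hgy : g ∉ Ideal.span {y} := by
      intro hgy
      obtain ⟨q, hq, hqle⟩ := Ideal.exists_minimalPrimes_le
        (show Ideal.span {g} ≤ Ideal.span {y} from (Ideal.span_singleton_le_iff_mem _).2 hgy)
      haveI : q.IsPrime := hq.1.1
      obtain ⟨c, hc⟩ := Ideal.mem_span_singleton'.1 (hqle (hq.1.2 (Ideal.mem_span_singleton_self g)))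
      -- `g = c * y` with `y ∉ q`; the prime `q ⊆ (y)` is then zero
      have hq0 : q = ⊥ := by
        refine Submodule.eq_bot_of_le_smul_of_le_jacobson_bot (maximalIdeal R) q (IsNoetherian.noetherian q) ?_
          (maximalIdeal_le_jacobson _)
        intro z hz
        obtain ⟨e, he⟩ := Ideal.mem_span_singleton'.1 (hqle hz)
        have heq : e ∈ q := (Ideal.IsPrime.mem_or_mem inferInstance (show e * y ∈ q by rw [he]; exact hz)).resolve_right
          (hyq q hq)
        rw [← he, mul_comm, smul_eq_mul]
        exact Ideal.mul_mem_mul hym heq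
      have := hq.1.2 (Ideal.mem_span_singleton_self g)
      rw [hq0] at this
      exact hg (by simpa using this)
    have hn' : (maximalIdeal (R ⧸ Ideal.span {y})).spanFinrank = n + 1 := by
      have := CAlgH3.spanFinrank_quotient_add_one hym hy2
      omega
    obtain ⟨p, hp, hgp, hpr, hpd⟩ := ih (R ⧸ Ideal.span {y}) hn' (Ideal.Quotient.mk _ g)
      (fun h => hgy (Ideal.Quotient.eq_zero_iff_mem.1 h))
    haveI := hp
    haveI := hpr
    let φ := (Ideal.Quotient.mk p).comp (Ideal.Quotient.mk (Ideal.span {y}))
    have hφ : Function.Surjective φ := Ideal.Quotient.mk_surjective.comp Ideal.Quotient.mk_surjective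
    let e : R ⧸ RingHom.ker φ ≃+* (R ⧸ Ideal.span {y}) ⧸ p := RingHom.quotientKerEquivOfSurjective hφ
    refine ⟨RingHom.ker φ, RingHom.ker_isPrime φ, ?_, IsRegularLocalRing.of_ringEquiv e.symm,
      (ringKrullDim_eq_of_ringEquiv e).trans hpd⟩
    intro h
    exact hgp (Ideal.Quotient.eq_zero_iff_mem.1 h)

end Groth.Agent.Move29
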