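import Mathlib
import Groth.Prelude.Def_Cyc
import Groth.Prelude.Def_RelProj
import Groth.Agent.Move29.RegCurve
import Groth.Agent.CycLib28.OverField
import Groth.Agent.CycLib28.SecOrd
import Groth.Agent.CycLib28.RatAdd
import Groth.Agent.CycLib28.DivFun
import Groth.Agent.CycLib28.DimFun
import Groth.Agent.CAlgSmall.ProjAffine

/-!
# A closed point of a smooth variety is a principal divisor modulo points of an open set
-/

set_option autoImplicit false
set_option backward.isDefEq.respectTransparency false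

universe u

open CategoryTheory CategoryTheory.Limits AlgebraicGeometry IsLocalRing Groth.Agent.CycLim28

namespace Groth.Agent.Move29

theorem exists_affineOpen_finite {X S : Scheme.{u}} [IsAffine S] (f : X ⟶ S)
    (hX : RelProj.IsHProjective f) (E : Set X) (hE : E.Finite) :
    ∃ V : X.Opens, IsAffineOpen V ∧ E ⊆ V := by
  obtain ⟨n, i, hi, -⟩ := hX
  haveI := hi
  haveI : IsAffineHom (pullback.fst (CohB1.ProjSpace.toSpec n (ULift.{u} ℤ)) (specULiftZIsTerminal.from S)) :=
    MorphismProperty.pullback_fst _ _ inferInstance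
  let r : X ⟶ CohB1.ProjSpace n (ULift.{u} ℤ) := i ≫ pullback.fst _ _
  haveI : IsAffineHom r := MorphismProperty.comp_mem _ i (pullback.fst _ _) inferInstance inferInstance
  obtain ⟨V, hV, hEV⟩ := CAlgSmall.ProjAffine.exists_affineOpen_of_isImmersion
    (CohB1.polyGrading n (ULift.{u} ℤ)) (𝟙 (Proj (CohB1.polyGrading n (ULift.{u} ℤ)))) (r '' E) (hE.image _)
  exact ⟨r ⁻¹ᵁ V, hV.preimage r, fun x hx => hEV ⟨x, hx, rfl⟩⟩

variable {K : Type u} [Field K] {W : Scheme.{u}}

theorem exists_move (f : W ⟶ Spec (CommRingCat.of K)) [Smooth f] [IsIntegral W] [CompactSpace W]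
    (hW : RelProj.IsHProjective f) {δ : W → ℤ} (hδ : Cyc.DeltaCompat f δ (fun _ => 0))
    (U : W.Opens) (hU : (U : Set W).Nonempty) {x : W} (hx0 : δ x = 0) (hxU : x ∉ U) :
    ∃ (ξ : W) (φ : W.residueField ξ), δ ξ = 1 ∧ φ ≠ 0 ∧ Cyc.divFun δ ξ φ x = 1 ∧
      ∀ y, y ∉ U → y ≠ x → Cyc.divFun δ ξ φ y = 0 := by
  classical
  haveI : IsLocallyNoetherian W := LocallyOfFiniteType.isLocallyNoetherian f
  haveI : IsNoetherian W := {}
  have hD : Cyc.IsDimFun W δ := (CycLib28.OverField.isSetup_of_smooth f hδ).2.2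
  have hcl : ∀ y : W, δ y = 0 → IsClosed ({y} : Set W) := fun y hy => by
    rw [CycLib28.OverField.delta_eq_ptDim f hδ y] at hy
    exact (DimLib.ptDim_eq_zero_iff f y).1 (by exact_mod_cast hy)
  haveI : IsRegularLocalRing (W.presheaf.stalk x) := VarietyLib.isRegularLocalRing_stalk_of_smooth K _ f x
  -- the generic point
  have hηU : genericPoint W ∈ U := (genericPoint_spec W).mem_open_set_iff U.2 |>.2 (by simpa using hU)
  have hne : genericPoint W ≠ x := fun h => hxU (h ▸ hηU)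
  have hη : δ x < δ (genericPoint W) := (hD _ x (genericPoint_specializes x) hne).1
  -- a function near `x` cutting out the complement of `U`
  obtain ⟨_, ⟨V, hV, rfl⟩, hxV, -⟩ :=
    W.isBasis_affineOpens.exists_subset_of_mem_open (Set.mem_univ x) isOpen_univ
  have hV' : IsAffineOpen V := hV
  have hηV : genericPoint W ∈ V := (genericPoint_specializes x).mem_open V.2 hxV
  obtain ⟨r, hrU, hrη⟩ := hV'.exists_basicOpen_le (V := U) ⟨genericPoint W, hηU⟩ hηV
  let g : W.presheaf.stalk x := W.presheaf.germ V x hxV r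
  have hg : g ≠ 0 := by
    intro h
    have h0 := CycLib28.specMap_germ (genericPoint_specializes x) hxV r
    rw [show W.presheaf.germ V x hxV r = 0 from h, map_zero] at h0
    exact (Scheme.evaluation_ne_zero_iff_mem_basicOpen _ _ hηV r).2 hrη h0.symm
  -- the curve
  have hdim := CycLib28.dim_stalk hD x
  obtain ⟨n, hn⟩ : ∃ n, (maximalIdeal (W.presheaf.stalk x)).spanFinrank = n + 1 := by
    refine ⟨(δ (genericPoint W) - δ x).toNat - 1, ?_⟩
    rw [← IsRegularLocalRing.spanFinrank_maximalIdeal] at hdim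
    have h1 : (maximalIdeal (W.presheaf.stalk x)).spanFinrank = (δ (genericPoint W) - δ x).toNat := by
      exact_mod_cast hdim
    omega
  obtain ⟨p, hp, hgp, hpr, hpd⟩ := exists_regular_curve n _ hn g hg
  haveI := hp
  let P : PrimeSpectrum (W.presheaf.stalk x) := ⟨p, hp⟩
  let ξ := W.fromSpecStalk x P
  have hξx : ξ ⤳ x := by
    have : ξ ∈ Set.range (W.fromSpecStalk x) := ⟨P, rfl⟩
    rwa [Scheme.range_fromSpecStalk] at this
  have hξ1 : δ ξ = 1 := by
    have h := CycLib28.dim_quotient hD x P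
    rw [show P.asIdeal = p from rfl, hpd] at h
    have h1 : 1 = (CycLib28.drop δ x P).toNat := by exact_mod_cast h
    have h2 : CycLib28.drop δ x P = δ ξ - δ x := rfl
    rw [h2] at h1
    omega
  have hd : δ x + 1 = δ ξ := by omega
  have hker : RingHom.ker (Cyc.specMap x ξ hξx) = p := CycLib28.ker_specMap P hξx
  have hξU : ξ ∈ U := by
    refine hrU ((Scheme.evaluation_ne_zero_iff_mem_basicOpen _ _ (hξx.mem_open V.2 hxV) r).1 ?_)
    rw [← CycLib28.specMap_germ hξx hxV r]
    intro h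
    exact hgp (hker ▸ RingHom.mem_ker.2 h)
  -- the finitely many points of the curve outside `U`
  let T : Set W := closure {ξ} ∩ (U : Set W)ᶜ
  have hT : IsClosed T := isClosed_closure.inter U.2.isClosed_compl
  have hT0 : ∀ y ∈ T, δ y = 0 := by
    intro y hy
    have h : ξ ⤳ y := specializes_iff_mem_closure.2 hy.1
    have hne' : ξ ≠ y := fun e => hy.2 (e ▸ hξU)
    have h1 := (hD ξ y h hne').1
    have h2 := CycLib28.OverField.delta_nonneg f hδ y
    omega
  have hTfin : T.Finite := by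
    refine (CycLib28.finite_maximal_of_isClosed T hT).subset fun y hy => ⟨hy, fun w hw hwy => ?_⟩
    have h := (hcl w (hT0 w hw)).closure_eq
    exact (Set.mem_singleton_iff.1 (h ▸ specializes_iff_mem_closure.1 hwy)).symm
  obtain ⟨V', hV'', hTV⟩ := exists_affineOpen_finite f hW (insert x T) (hTfin.insert x)
  have hxV' : x ∈ V' := hTV (Set.mem_insert _ _)
  have hξV' : ξ ∈ V' := hξx.mem_open V'.2 hxV'
  have hmax : ∀ (y : W) (hy : y ∈ V'), IsClosed ({y} : Set W) → (hV''.primeIdealOf ⟨y, hy⟩).asIdeal.IsMaximal := by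
    intro y hy hyc
    refine (PrimeSpectrum.isClosed_singleton_iff_isMaximal _).1 ?_
    have h1 : IsClosed (hV''.fromSpec ⁻¹' {y}) := hyc.preimage hV''.fromSpec.continuous
    have h2 : hV''.fromSpec ⁻¹' {y} = {hV''.primeIdealOf ⟨y, hy⟩} := by
      ext w
      simp only [Set.mem_preimage, Set.mem_singleton_iff]
      constructor
      · intro h
        exact hV''.fromSpec.isOpenEmbedding.injective (h.trans (hV''.fromSpec_primeIdealOf ⟨y, hy⟩).symm)
      · rintro rfl
        exact hV''.fromSpec_primeIdealOf ⟨y, hy⟩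
    rwa [h2] at h1
  let q : Ideal Γ(W, V') := (hV''.primeIdealOf ⟨x, hxV'⟩).asIdeal
  haveI hqmax : q.IsMaximal := hmax x hxV' (hcl x hx0)
  -- the local ring of the curve at `x`
  haveI := hpr
  haveI hDreg : IsRegularLocalRing (Cyc.LocQuot x ξ hξx) :=
    IsRegularLocalRing.of_ringEquiv (Ideal.quotEquivOfEq hker.symm)
  have hsf : (maximalIdeal (Cyc.LocQuot x ξ hξx)).spanFinrank = 1 := by
    have := IsRegularLocalRing.spanFinrank_maximalIdeal (R := Cyc.LocQuot x ξ hξx)
    rw [ringKrullDim_eq_of_ringEquiv (Ideal.quotEquivOfEq hker), hpd] at this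
    exact_mod_cast this
  obtain ⟨π, hπ⟩ : ∃ π, maximalIdeal (Cyc.LocQuot x ξ hξx) = Ideal.span {π} := by
    obtain ⟨s, hs1, hs2⟩ := (IsNoetherian.noetherian (maximalIdeal (Cyc.LocQuot x ξ hξx))).exists_span_finset_card_eq_spanFinrank
    rw [hsf, Finset.card_eq_one] at hs1
    obtain ⟨π, rfl⟩ := hs1
    exact ⟨π, by rw [← hs2]; simp [Ideal.submodule_span_eq]⟩
  letI := TopCat.Presheaf.algebra_section_stalk W.presheaf ⟨x, hxV'⟩
  haveI hloc : IsLocalization.AtPrime (W.presheaf.stalk x) q := hV''.isLocalization_stalk ⟨x, hxV'⟩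
  let ψ : Γ(W, V') →+* Cyc.LocQuot x ξ hξx :=
    (Ideal.Quotient.mk (RingHom.ker (Cyc.specMap x ξ hξx))).comp (W.presheaf.germ V' x hxV').hom
  have hmap : q.map ψ = maximalIdeal (Cyc.LocQuot x ξ hξx) := by
    change q.map ((Ideal.Quotient.mk _).comp (W.presheaf.germ V' x hxV').hom) = _
    rw [← Ideal.map_map]
    have h1 : q.map (W.presheaf.germ V' x hxV').hom = maximalIdeal (W.presheaf.stalk x) :=
      IsLocalization.AtPrime.map_eq_maximalIdeal q (W.presheaf.stalk x)
    rw [h1]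
    exact IsLocalRing.map_maximalIdeal_of_surjective _ Ideal.Quotient.mk_surjective
  obtain ⟨a, haq, ha2⟩ : ∃ a ∈ q, ψ a ∉ maximalIdeal (Cyc.LocQuot x ξ hξx) ^ 2 := by
    by_contra! hcon
    have h1 : maximalIdeal (Cyc.LocQuot x ξ hξx) ≤ maximalIdeal (Cyc.LocQuot x ξ hξx) ^ 2 :=
      hmap.symm.le.trans (Ideal.map_le_iff_le_comap.2 hcon)
    have h2 : maximalIdeal (Cyc.LocQuot x ξ hξx) = ⊥ := Submodule.eq_bot_of_le_smul_of_le_jacobson_bot
      (maximalIdeal _) _ (IsNoetherian.noetherian _) (by rwa [smul_eq_mul, ← pow_two]) (maximalIdeal_le_jacobson _)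
    have h3 := CAlgH3.spanFinrank_le_length (R := Cyc.LocQuot x ξ hξx) [] (I := maximalIdeal _)
      (by rw [Ideal.ofList_nil]; exact h2.symm)
    rw [hsf] at h3
    simp at h3
  -- congruences
  let S := (hTfin.toFinset.erase x).attach
  have hSmem : ∀ y : {y // y ∈ hTfin.toFinset.erase x}, y.1 ∈ V' :=
    fun y => hTV (Set.mem_insert_of_mem _ (hTfin.mem_toFinset.1 (Finset.mem_of_mem_erase y.2)))
  have hsup : q ^ 2 ⊔ ∏ y ∈ S, (hV''.primeIdealOf ⟨y.1, hSmem y⟩).asIdeal = ⊤ := by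
    refine Ideal.sup_prod_eq_top fun y _ => Ideal.pow_sup_eq_top ?_
    refine (hqmax.coprime_of_ne (hmax y.1 (hSmem y) (hcl _ (hT0 _ (hTfin.mem_toFinset.1 (Finset.mem_of_mem_erase y.2))))) ?_)
    intro h
    have e1 := hV''.fromSpec_primeIdealOf ⟨x, hxV'⟩
    rw [PrimeSpectrum.ext h, hV''.fromSpec_primeIdealOf ⟨y.1, hSmem y⟩] at e1
    exact (Finset.ne_of_mem_erase y.2) e1
  obtain ⟨u, hu, v, hv, huv⟩ := Submodule.mem_sup.1 (hsup.symm.le (Submodule.mem_top (x := (1 : Γ(W, V')))))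
  let b : Γ(W, V') := a * v + u
  have hb2 : b - a ∈ q ^ 2 := by
    have : b - a = u * (1 - a) := by
      simp only [b]
      linear_combination (a * huv)
    rw [this]
    exact Ideal.mul_mem_right _ _ hu
  have hψb : Ideal.span {ψ b} = maximalIdeal (Cyc.LocQuot x ξ hξx) := by
    have h1 : ψ b ∈ maximalIdeal (Cyc.LocQuot x ξ hξx) := by
      rw [← hmap]
      refine Ideal.mem_map_of_mem ψ ?_
      have := add_mem (Ideal.pow_le_self two_ne_zero hb2) haq
      simpa using this
    have h2 : ψ b ∉ maximalIdeal (Cyc.LocQuot x ξ hξx) ^ 2 := by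
      intro h
      have h3 : ψ (b - a) ∈ maximalIdeal (Cyc.LocQuot x ξ hξx) ^ 2 := by
        rw [← hmap, ← Ideal.map_pow]
        exact Ideal.mem_map_of_mem ψ hb2
      apply ha2
      have := sub_mem h h3
      simpa using this
    refine le_antisymm ((Ideal.span_singleton_le_iff_mem _).2 h1) ?_
    rw [hπ, Ideal.span_singleton_le_iff_mem, Ideal.mem_span_singleton']
    obtain ⟨c, hc⟩ := Ideal.mem_span_singleton'.1 (hπ ▸ h1)
    have hcu : IsUnit c := by
      by_contra hcu
      refine h2 ?_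
      rw [← hc, pow_two]
      exact Ideal.mul_mem_mul ((mem_maximalIdeal c).2 hcu) (hπ ▸ Ideal.mem_span_singleton_self π)
    exact ⟨(↑hcu.unit⁻¹ : Cyc.LocQuot x ξ hξx), by rw [← hc, ← mul_assoc, IsUnit.val_inv_mul, one_mul]⟩
  let φ : W.residueField ξ := W.evaluation V' ξ hξV' b
  have hφx : φ = algebraMap (Cyc.LocQuot x ξ hξx) (W.residueField ξ) (ψ b) :=
    (CycLib28.specMap_germ hξx hxV' b).symm
  obtain ⟨c1, c2, c3, c4⟩ := CycLib28.locQuot_conds hD hξx hd
  have hψb0 : ψ b ≠ 0 := by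
    intro h
    rw [h, Ideal.span_singleton_eq_bot.2 rfl] at hψb
    have h3 := CAlgH3.spanFinrank_le_length (R := Cyc.LocQuot x ξ hξx) [] (I := maximalIdeal _)
      (by rw [Ideal.ofList_nil]; exact hψb)
    rw [hsf] at h3
    simp at h3
  haveI := CAlgH3.isDomain_of_isRegularLocalRing (Cyc.LocQuot x ξ hξx)
  have hφ0 : φ ≠ 0 := by
    rw [hφx]
    exact fun h => hψb0 (IsFractionRing.injective (Cyc.LocQuot x ξ hξx) (W.residueField ξ) (by rw [h, map_zero]))
  refine ⟨ξ, φ, hξ1, hφ0, ?_, ?_⟩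
  · rw [Cyc.divFun, dif_pos ⟨hξx, hd⟩, hφx]
    simp only [Cyc.ordAt, CycAlg.ordFrac]
    rw [dif_pos ⟨c1, c2, c3, c4⟩, Ring.ordFrac_eq_ord _ hψb0,
      Ring.ordMonoidWithZeroHom_eq_ord (mem_nonZeroDivisors_of_ne_zero hψb0)]
    have hord : Ring.ord (Cyc.LocQuot x ξ hξx) (ψ b) = 1 := by
      rw [Ring.ord, hψb, Module.length_eq_one_iff]
      exact isSimpleModule_iff_isCoatom.2 (maximalIdeal.isMaximal _).1
    rw [hord]
    rfl
  · intro y hyU hyx
    rw [Cyc.divFun]
    split_ifs with h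
    swap
    · rfl
    have hyT : y ∈ T := ⟨specializes_iff_mem_closure.1 h.1, hyU⟩
    have hyV : y ∈ V' := hTV (Set.mem_insert_of_mem _ hyT)
    have hyS : y ∈ hTfin.toFinset.erase x := Finset.mem_erase.2 ⟨hyx, hTfin.mem_toFinset.2 hyT⟩
    have hby : b ∉ (hV''.primeIdealOf ⟨y, hyV⟩).asIdeal := by
      intro hb
      haveI := (hmax y hyV (hcl y (hT0 y hyT)))
      have hvy : v ∈ (hV''.primeIdealOf ⟨y, hyV⟩).asIdeal :=
        Ideal.prod_le_inf.trans (Finset.inf_le (Finset.mem_attach _ ⟨y, hyS⟩)) hv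
      have huy : u ∈ (hV''.primeIdealOf ⟨y, hyV⟩).asIdeal := by
        have := sub_mem hb (Ideal.mul_mem_left _ a hvy)
        simpa [b] using this
      have := add_mem huy hvy
      rw [huv] at this
      exact (Ideal.IsPrime.ne_top inferInstance) ((Ideal.eq_top_iff_one _).2 this)
    have hunit : IsUnit (W.presheaf.germ V' y hyV b) := by
      letI := TopCat.Presheaf.algebra_section_stalk W.presheaf ⟨y, hyV⟩
      haveI := hV''.isLocalization_stalk ⟨y, hyV⟩
      exact IsLocalization.map_units (W.presheaf.stalk y) (⟨b, hby⟩ : (hV''.primeIdealOf ⟨y, hyV⟩).asIdeal.primeCompl)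
    have := CycLib28.ordAt_unit hD h.1 h.2 _ hunit
    rw [CycLib28.specMap_germ h.1 hyV b] at this
    exact this

end Groth.Agent.Move29
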